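import Groth.Agent.L19.Curves.Ring
import Groth.Agent.L18.NormalizationField
import Groth.Agent.L22.AffineDim
import Groth.Agent.L05.CurveNorm.Algebra
import Mathlib.RingTheory.Nullstellensatz
import Mathlib.RingTheory.Jacobson.Ring
import Mathlib.RingTheory.Smooth.Basic
import Mathlib.RingTheory.KrullDimension.Polynomial
import Mathlib.RingTheory.PowerSeries.Basic
import Mathlib.FieldTheory.IsAlgClosed.Basic

/-! # A smooth curve through a point, mapping its generic point to a given open set -/

set_option autoImplicit false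
set_option linter.style.haveILetI false

universe u

namespace Groth.L14.GeomSmoothing

theorem ringKrullDim_eq_one_of_smooth {k C : Type u} [Field k] [CommRing C] [IsDomain C] [Algebra k C]
    [Algebra.FiniteType k C] (c : Ideal C) [c.IsMaximal] (hc : c.height = 1) : ringKrullDim C = 1 := by
  rw [← Groth.L22.AffineDim.height_of_isMaximal k C c, hc]
  rfl

theorem dimensionLEOne_of_ringKrullDim {C : Type u} [CommRing C] [IsDomain C] (h : ringKrullDim C ≤ 1) :
    Ring.DimensionLEOne C := by
  haveI : Ring.KrullDimLE 1 C := Ring.krullDimLE_iff.2 h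
  exact ⟨fun {p} hp hpr => Ring.krullDimLE_one_iff_of_noZeroDivisors.mp ‹_› p hp hpr⟩

/-- Two rational points of an algebra with the same kernel coincide. -/
theorem algHom_eq_of_ker {k A : Type u} [Field k] [CommRing A] [Algebra k A] (f g : A →ₐ[k] k)
    (h : ∀ a, f a = 0 → g a = 0) : f = g := by
  refine AlgHom.ext fun a => ?_
  have := h (a - algebraMap k A (f a)) (by simp)
  rw [map_sub, AlgHom.commutes, sub_eq_zero] at this
  exact this.symm

/-- Let a `k⟦t⟧`-point of an algebra of finite type over an algebraically closed field be given, and an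
open set of the spectrum containing its generic point.  Then the closed point lies on a smooth curve whose
generic point lands in the open set. -/
theorem exists_curve_through {k A : Type u} [Field k] [IsAlgClosed k] [CommRing A] [Algebra k A]
    [Algebra.FiniteType k A] (γ : A →ₐ[k] PowerSeries k) (ev : A →ₐ[k] k)
    (hev : ∀ a, ev a = PowerSeries.constantCoeff (γ a)) (U : Set (PrimeSpectrum A)) (hU : IsOpen U)
    (hη : (⟨RingHom.ker γ.toRingHom, RingHom.ker_isPrime _⟩ : PrimeSpectrum A) ∈ U) :
    ∃ (C : Type u) (_ : CommRing C) (_ : IsDomain C) (_ : Algebra k C) (_ : Algebra.Smooth k C)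
      (φ : A →ₐ[k] C) (ρ : C →ₐ[k] k), ringKrullDim C = 1 ∧ ρ.comp φ = ev ∧
      (⟨RingHom.ker φ.toRingHom, RingHom.ker_isPrime _⟩ : PrimeSpectrum A) ∈ U := by
  classical
  let q : Ideal A := RingHom.ker γ.toRingHom
  haveI : q.IsPrime := RingHom.ker_isPrime _
  let P₀ : Ideal A := RingHom.ker ev.toRingHom
  have hqP : q ≤ P₀ := fun a ha => by
    have ha' : γ a = 0 := ha
    show ev a = 0
    rw [hev, ha', map_zero]
  by_cases heq : q = P₀
  · refine ⟨Polynomial k, inferInstance, inferInstance, inferInstance, Groth.L05.CurveNorm.smooth_of_dedekind k _, (Algebra.ofId k _).comp ev,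
      Polynomial.aeval 0, ?_, AlgHom.ext fun a => Polynomial.aeval_C _ _, ?_⟩
    · rw [Polynomial.ringKrullDim_of_isNoetherianRing, ringKrullDim_eq_zero_of_field]; rfl
    · convert hη using 1
      refine PrimeSpectrum.ext ?_
      show RingHom.ker ((Algebra.ofId k (Polynomial k)).comp ev).toRingHom = q
      rw [heq]
      ext a
      show algebraMap k (Polynomial k) (ev a) = 0 ↔ ev a = 0
      exact map_eq_zero_iff _ (algebraMap k (Polynomial k)).injective
  obtain ⟨_, ⟨a₀, rfl⟩, ha₀, hsub⟩ := PrimeSpectrum.isTopologicalBasis_basic_opens.exists_subset_of_mem_open hη hU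
  haveI : P₀.IsMaximal := RingHom.ker_isMaximal_of_surjective _ fun x => ⟨algebraMap k A x, ev.commutes x⟩
  let B := A ⧸ q
  let P : Ideal B := P₀.map (Ideal.Quotient.mk q)
  haveI : P.IsMaximal := Ideal.IsMaximal.map_of_surjective_of_ker_le Ideal.Quotient.mk_surjective
    (by rw [Ideal.mk_ker]; exact hqP)
  have hP : P ≠ ⊥ := fun h => heq (le_antisymm hqP
    (Ideal.mk_ker (I := q) ▸ (Ideal.map_eq_bot_iff_le_ker _).1 h))
  have ha : Ideal.Quotient.mk q a₀ ≠ 0 := fun h => ha₀ (Ideal.Quotient.eq_zero_iff_mem.1 h)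
  have hN : CAlg.IsNagata B := Groth.L01.Nagata.isNagata_of_finiteType (R := k) (Groth.L18.NormField.isNagata_field k)
  obtain ⟨C, _, _, _, _, φ, c, hφft, hcmax, hcP, hch, hφa, -⟩ := Groth.L19.Curves.exists_curve hN P hP ha
  letI : Algebra k C := (φ.comp (algebraMap k B)).toAlgebra
  haveI : Algebra.FiniteType k C := hφft.comp (RingHom.finiteType_algebraMap.2 inferInstance)
  haveI := hcmax
  have hdim : ringKrullDim C = 1 := ringKrullDim_eq_one_of_smooth (k := k) c hch
  haveI := dimensionLEOne_of_ringKrullDim hdim.le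
  haveI : IsDedekindDomain C := {}
  haveI := Groth.L05.CurveNorm.smooth_of_dedekind k C
  let Φ : A →ₐ[k] C := ⟨φ.comp (Ideal.Quotient.mk q), fun r => rfl⟩
  letI : Field (C ⧸ c) := Ideal.Quotient.field c
  haveI : Module.Finite k (C ⧸ c) := finite_of_finite_type_of_isJacobsonRing k (C ⧸ c)
  have hbij : Function.Bijective (algebraMap k (C ⧸ c)) :=
    IsAlgClosed.algebraMap_bijective_of_isIntegral
  let ρ : C →ₐ[k] k := (AlgEquiv.ofBijective (Algebra.ofId k (C ⧸ c)) hbij).symm.toAlgHom.comp
    (Ideal.Quotient.mkₐ k c)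
  refine ⟨C, inferInstance, inferInstance, inferInstance, inferInstance, Φ, ρ, hdim, ?_, ?_⟩
  · refine (algHom_eq_of_ker ev (ρ.comp Φ) fun a ha => ?_).symm
    have : φ (Ideal.Quotient.mk q a) ∈ c := by
      rw [← Ideal.mem_comap, hcP]
      exact Ideal.mem_map_of_mem _ ha
    show (AlgEquiv.ofBijective (Algebra.ofId k (C ⧸ c)) hbij).symm (Ideal.Quotient.mk c (φ (Ideal.Quotient.mk q a))) = 0
    rw [Ideal.Quotient.eq_zero_iff_mem.2 this, map_zero]
  · exact hsub hφa

end Groth.L14.GeomSmoothing
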