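import Groth.Agent.L14.GeomSmoothing.Curve
import Groth.Agent.L06.FormSmoothPS
import Groth.Agent.L01.CompletionReg
import Groth.Agent.L11.SmRegular.Basic
import Mathlib.RingTheory.MvPowerSeries.Rename
import Mathlib.RingTheory.Filtration
import Mathlib.RingTheory.AdicCompletion.Basic

/-! # Expanding a smooth curve in a power series around a rational point -/

set_option autoImplicit false
set_option linter.style.haveILetI false

universe u

open IsLocalRing

namespace Groth.L14.GeomSmoothing

theorem exists_series {k A : Type u} [Field k] [IsAlgClosed k] [CommRing A] [IsDomain A] [Algebra k A]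
    [Algebra.Smooth k A] (hdim : ringKrullDim A = 1) (ρ : A →ₐ[k] k) :
    ∃ γ : A →ₐ[k] PowerSeries k, Function.Injective γ ∧ ∀ a, PowerSeries.constantCoeff (γ a) = ρ a := by
  haveI : IsNoetherianRing A := Algebra.FiniteType.isNoetherianRing k A
  let m : Ideal A := RingHom.ker ρ.toRingHom
  haveI : m.IsMaximal := RingHom.ker_isMaximal_of_surjective _ fun x => ⟨algebraMap k A x, ρ.commutes x⟩
  let O := Localization.AtPrime m
  haveI : IsDomain O := IsLocalization.isDomain_localization m.primeCompl_le_nonZeroDivisors
  haveI : IsRegularLocalRing (Localization.AtPrime (m.comap (algebraMap k A))) := by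
    haveI : Nontrivial (Localization.AtPrime (m.comap (algebraMap k A))) := inferInstance
    exact IsRegularLocalRing.of_ringEquiv
      (IsLocalization.atUnits k (S := Localization.AtPrime (m.comap (algebraMap k A)))
        (m.comap (algebraMap k A)).primeCompl fun x hx => isUnit_iff_ne_zero.2 fun h =>
          hx (by rw [SetLike.mem_coe, h]; exact zero_mem _)).toRingEquiv
  haveI : IsRegularLocalRing O := Groth.L11.SmRegular.isRegularLocalRing_of_smooth k A m
  have hO : ringKrullDim O = 1 := by
    rw [IsLocalization.AtPrime.ringKrullDim_eq_height m O, Groth.L22.AffineDim.height_of_isMaximal k A m, hdim]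
  have hres : Function.Bijective (algebraMap k (ResidueField O)) := by
    letI := Ideal.Quotient.field m
    haveI : Module.Finite k (A ⧸ m) := finite_of_finite_type_of_isJacobsonRing k (A ⧸ m)
    have h1 : Function.Bijective (algebraMap k (A ⧸ m)) := IsAlgClosed.algebraMap_bijective_of_isIntegral
    rw [IsScalarTower.algebraMap_eq k (A ⧸ m) m.ResidueField]
    exact (Ideal.bijective_algebraMap_quotient_residueField m).comp h1
  let eκ : k ≃ₐ[k] ResidueField O := AlgEquiv.ofBijective (Algebra.ofId k _) hres
  haveI : Algebra.FormallySmooth k (ResidueField O) := Algebra.FormallySmooth.of_equiv eκ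
  obtain ⟨n, e, he⟩ := Groth.L06.FormSmooth.exists_completion_equiv (k := k) (A := O)
  obtain rfl : n = 1 := by
    have h := ringKrullDim_eq_of_ringEquiv e
    rw [Groth.L01.CompletionReg.ringKrullDim_completion, hO, Groth.L01.PowSerReg.ringKrullDim_eq] at h
    exact_mod_cast h.symm
  let μ : MvPowerSeries (Fin 1) (ResidueField O) →+* PowerSeries k :=
    (MvPowerSeries.map eκ.symm.toRingEquiv.toRingHom).comp
      (MvPowerSeries.renameEquiv (ResidueField O) (finOneEquiv : Fin 1 ≃ Unit)).toRingEquiv.toRingHom
  have hμ : Function.Injective μ := by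
    intro f g h
    refine (MvPowerSeries.renameEquiv (ResidueField O) (finOneEquiv : Fin 1 ≃ Unit)).injective
      (MvPowerSeries.ext fun i => eκ.symm.injective ?_)
    simpa [μ, MvPowerSeries.coeff_map] using congrArg (MvPowerSeries.coeff i) h
  have hμC : ∀ x : k, μ (algebraMap (ResidueField O) _ (algebraMap k (ResidueField O) x)) =
      algebraMap k (PowerSeries k) x := fun x => by
    show MvPowerSeries.map eκ.symm.toRingEquiv.toRingHom
      (MvPowerSeries.renameEquiv (ResidueField O) (finOneEquiv : Fin 1 ≃ Unit) _) = _
    rw [AlgEquiv.commutes, MvPowerSeries.algebraMap_apply, Algebra.algebraMap_self, RingHom.id_apply,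
      MvPowerSeries.map_C, PowerSeries.algebraMap_apply, Algebra.algebraMap_self, RingHom.id_apply]
    exact congrArg PowerSeries.C (eκ.symm.commutes x)
  let γ : A →ₐ[k] PowerSeries k :=
    ⟨(μ.comp e.toRingHom).comp ((algebraMap O (AdicCompletion (maximalIdeal O) O)).comp (algebraMap A O)),
      fun x => by
        show μ (e (algebraMap O _ (algebraMap A O (algebraMap k A x)))) = _
        rw [← IsScalarTower.algebraMap_apply k A O, he, hμC]⟩
  have hinjγ : Function.Injective γ := by
    haveI : IsHausdorff (maximalIdeal O) O := IsHausdorff.of_isLocalRing _ _ (maximalIdeal.isMaximal O).ne_top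
    intro x y h
    exact IsLocalization.injective O m.primeCompl_le_nonZeroDivisors
      (AdicCompletion.of_injective (maximalIdeal O) O (e.injective (hμ h)))
  refine ⟨γ, hinjγ, ?_⟩
  let ν : A →ₐ[k] k := ⟨(PowerSeries.constantCoeff (R := k)).comp γ.toRingHom, fun x => by
    show PowerSeries.constantCoeff (γ (algebraMap k A x)) = x
    rw [γ.commutes, PowerSeries.algebraMap_apply, PowerSeries.constantCoeff_C]; rfl⟩
  suffices h : ν = ρ from fun a => DFunLike.congr_fun h a
  refine algHom_eq_of_ker ν ρ fun a ha => ?_
  by_contra hne
  have hu : IsUnit (γ a) := by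
    have h1 : IsUnit (algebraMap A O a) :=
      IsLocalization.map_units O (⟨a, show a ∉ m from hne⟩ : m.primeCompl)
    exact h1.map ((μ.comp e.toRingHom).comp (algebraMap O (AdicCompletion (maximalIdeal O) O)))
  exact (hu.map (PowerSeries.constantCoeff (R := k))).ne_zero ha

end Groth.L14.GeomSmoothing
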